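import Cfsg.Agent.Helper71.BSW.DefsCT

/-!
# S3282 piece (S7) for helper71: relations between `X`, `Λ μ`, `Y₁ + Y₂` off the conjugates of `K`
-/

set_option autoImplicit false

namespace Cfsg.Agent.Helper88.BSW

open Cfsg Cfsg.Agent.Helper71.BSW

theorem sum_ind_mul {α : Type*} [Fintype α] (a : α) (f : α → ℂ) :
    ∑ χ : α, ind χ a * f χ = f a := by
  classical
  rw [Finset.sum_eq_single a]
  · rw [ind_self, one_mul]
  · intro b _ hb
    rw [ind_of_ne hb, zero_mul]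
  · intro h
    exact absurd (Finset.mem_univ a) h

theorem s_offK {G : Type*} [Group G] [Fintype G] [Fintype (IrrCharacter G)] {t s : G} {K : Subgroup G}
    [Fintype ↥K] [Fintype (↥K →* ℂˣ)]
    {triv : IrrCharacter G} {σ : K →* ℂˣ} {δ : ℤ} {X : IrrCharacter G}
    {Λ : (K →* ℂˣ) → IrrCharacter G} {Y₁ Y₂ : IrrCharacter G} {ε₁ ε₂ : ℤ}
    (T : FactsT t s K) (SA : ShapeA K triv σ δ X Λ Y₁ Y₂ ε₁ ε₂) (FS : FactsS t K triv σ δ X Λ Y₁ Y₂ ε₁ ε₂) :
    ∀ g : G, (∀ x : G, x * g * x⁻¹ ∉ K) →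
    (∀ μ : K →* ℂˣ, μ ≠ 1 → μ ≠ σ →
      1 + (δ : ℂ) * (X : G → ℂ) g - (δ : ℂ) * (Λ μ : G → ℂ) g = 0) ∧
    1 + (δ : ℂ) * (X : G → ℂ) g - (δ : ℂ) * ((Y₁ : G → ℂ) g + (Y₂ : G → ℂ) g) = 0 := by
  intro g hg
  constructor
  · intro μ hμ1 hμσ
    have h0 := T.theta_off μ g hg
    rw [T.theta_expand μ g] at h0
    have h1 : ∑ χ : IrrCharacter G, coef K μ χ * (χ : G → ℂ) g =
        1 + (δ : ℂ) * (X : G → ℂ) g - (δ : ℂ) * (Λ μ : G → ℂ) g := by
      calc ∑ χ : IrrCharacter G, coef K μ χ * (χ : G → ℂ) g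
          = ∑ χ : IrrCharacter G, (ind χ triv * (χ : G → ℂ) g + (δ : ℂ) * (ind χ X * (χ : G → ℂ) g) -
              (δ : ℂ) * (ind χ (Λ μ) * (χ : G → ℂ) g)) := by
            apply Finset.sum_congr rfl
            intro χ _
            rw [SA.coef_nonreal μ hμ1 hμσ χ]
            ring
        _ = 1 + (δ : ℂ) * (X : G → ℂ) g - (δ : ℂ) * (Λ μ : G → ℂ) g := by
            rw [Finset.sum_sub_distrib, Finset.sum_add_distrib, ← Finset.mul_sum, ← Finset.mul_sum,
              sum_ind_mul triv (fun χ : IrrCharacter G => (χ : G → ℂ) g),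
              sum_ind_mul X (fun χ : IrrCharacter G => (χ : G → ℂ) g),
              sum_ind_mul (Λ μ) (fun χ : IrrCharacter G => (χ : G → ℂ) g), SA.triv_apply]
    rw [← h1]
    exact h0
  · obtain ⟨he1, he2⟩ := FS.eps
    have h0 := T.theta_off σ g hg
    rw [T.theta_expand σ g] at h0
    have h1 : ∑ χ : IrrCharacter G, coef K σ χ * (χ : G → ℂ) g =
        1 + (δ : ℂ) * (X : G → ℂ) g - (δ : ℂ) * ((Y₁ : G → ℂ) g + (Y₂ : G → ℂ) g) := by
      calc ∑ χ : IrrCharacter G, coef K σ χ * (χ : G → ℂ) g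
          = ∑ χ : IrrCharacter G, (ind χ triv * (χ : G → ℂ) g + (δ : ℂ) * (ind χ X * (χ : G → ℂ) g) -
              (δ : ℂ) * (ind χ Y₁ * (χ : G → ℂ) g) - (δ : ℂ) * (ind χ Y₂ * (χ : G → ℂ) g)) := by
            apply Finset.sum_congr rfl
            intro χ _
            rw [SA.coef_sigma χ, he1, he2]
            push_cast
            ring
        _ = 1 + (δ : ℂ) * (X : G → ℂ) g - (δ : ℂ) * ((Y₁ : G → ℂ) g + (Y₂ : G → ℂ) g) := by
            rw [Finset.sum_sub_distrib, Finset.sum_sub_distrib, Finset.sum_add_distrib,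
              ← Finset.mul_sum, ← Finset.mul_sum, ← Finset.mul_sum,
              sum_ind_mul triv (fun χ : IrrCharacter G => (χ : G → ℂ) g),
              sum_ind_mul X (fun χ : IrrCharacter G => (χ : G → ℂ) g),
              sum_ind_mul Y₁ (fun χ : IrrCharacter G => (χ : G → ℂ) g),
              sum_ind_mul Y₂ (fun χ : IrrCharacter G => (χ : G → ℂ) g), SA.triv_apply]
            ring
    rw [← h1]
    exact h0

end Cfsg.Agent.Helper88.BSW
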